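import Cfsg.Agent.Perm.Basic
import Mathlib

/-!
A primitive group with a Jordan set of size at most half the degree is triply transitive.
Among the translates of the set, a maximal Jordan set of size at most `n - 2` must have a
complement of size two, by a double count in the design of translates.
-/

set_option autoImplicit false
set_option linter.style.haveILetI false

namespace Cfsg.Agent.Suborbit

open MulAction
open scoped Pointwise

variable {G Ω : Type*} [Group G] [MulAction G Ω]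

/-- The pointwise stabilizer of the complement of `J` is transitive on `J`. -/
def IsJordanSet (G : Type*) {Ω : Type*} [Group G] [MulAction G Ω] (J : Finset Ω) : Prop :=
  ∀ x ∈ J, ∀ y ∈ J, ∃ g : G, (∀ z ∉ J, g • z = z) ∧ g • x = y

theorem IsJordanSet.union [DecidableEq Ω] {J B : Finset Ω} (hJ : IsJordanSet G J) (hB : IsJordanSet G B)
    (hne : (J ∩ B).Nonempty) : IsJordanSet G (J ∪ B) := by
  obtain ⟨p, hp⟩ := hne
  rw [Finset.mem_inter] at hp
  have key : ∀ x ∈ J ∪ B, ∃ g : G, (∀ z ∉ J ∪ B, g • z = z) ∧ g • x = p := by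
    intro x hx
    rcases Finset.mem_union.1 hx with hx | hx
    · obtain ⟨g, hg, hgx⟩ := hJ x hx p hp.1
      exact ⟨g, fun z hz => hg z fun h => hz (Finset.mem_union_left _ h), hgx⟩
    · obtain ⟨g, hg, hgx⟩ := hB x hx p hp.2
      exact ⟨g, fun z hz => hg z fun h => hz (Finset.mem_union_right _ h), hgx⟩
  intro x hx y hy
  obtain ⟨g, hg, hgx⟩ := key x hx
  obtain ⟨g', hg', hgy⟩ := key y hy
  refine ⟨g'⁻¹ * g, fun z hz => ?_, ?_⟩
  · rw [mul_smul, hg z hz, inv_smul_eq_iff, hg' z hz]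
  · rw [mul_smul, hgx, inv_smul_eq_iff, hgy]

theorem IsJordanSet.smul [DecidableEq Ω] {J : Finset Ω} (hJ : IsJordanSet G J) (g : G) :
    IsJordanSet G (g • J) := by
  intro x hx y hy
  rw [← Finset.inv_smul_mem_iff] at hx hy
  obtain ⟨h, hh, hhx⟩ := hJ _ hx _ hy
  refine ⟨g * h * g⁻¹, fun z hz => ?_, ?_⟩
  · rw [← Finset.inv_smul_mem_iff] at hz
    rw [mul_smul, mul_smul, hh _ hz, smul_inv_smul]
  · rw [mul_smul, mul_smul, hhx, smul_inv_smul]

theorem three_transitive_of_jordanSet [Finite G] [Fintype Ω]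
    (h2 : IsMultiplyPretransitive G Ω 2) (Γ : Finset Ω) (hΓ : IsJordanSet G Γ)
    (hk : 1 < Γ.card) (hn : 2 * Γ.card ≤ Fintype.card Ω) : IsMultiplyPretransitive G Ω 3 := by
  classical
  haveI := h2
  haveI : IsPretransitive G Ω := isPretransitive_of_is_two_pretransitive
  haveI := Fintype.ofFinite G
  set n := Fintype.card Ω
  set k := Γ.card
  let ℬ : Finset (Finset Ω) := Finset.univ.image fun g : G => g • Γ
  have hℬ : ∀ B, B ∈ ℬ ↔ ∃ g : G, g • Γ = B := fun B => by simp [ℬ]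
  have hcard : ∀ B ∈ ℬ, B.card = k := by
    intro B hB
    obtain ⟨g, rfl⟩ := (hℬ B).1 hB
    exact Finset.card_smul_finset g Γ
  have hinv : ∀ (g : G), ℬ.image (fun B => g • B) = ℬ := by
    intro g
    ext B
    simp only [Finset.mem_image, hℬ]
    constructor
    · rintro ⟨C, ⟨h, rfl⟩, rfl⟩
      exact ⟨g * h, mul_smul g h Γ⟩
    · rintro ⟨h, rfl⟩
      exact ⟨g⁻¹ • h • Γ, ⟨g⁻¹ * h, mul_smul _ _ _⟩, smul_inv_smul g _⟩
  -- the design parameters
  have hr_inv : ∀ (g : G) (x : Ω), (ℬ.filter (g • x ∈ ·)).card = (ℬ.filter (x ∈ ·)).card := by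
    intro g x
    nth_rw 1 [← hinv g]
    rw [Finset.filter_image, Finset.card_image_of_injective _ (MulAction.injective g)]
    simp [Finset.smul_mem_smul_finset_iff]
  have hl_inv : ∀ (g : G) (x y : Ω),
      (ℬ.filter fun B => g • x ∈ B ∧ g • y ∈ B).card = (ℬ.filter fun B => x ∈ B ∧ y ∈ B).card := by
    intro g x y
    nth_rw 1 [← hinv g]
    rw [Finset.filter_image, Finset.card_image_of_injective _ (MulAction.injective g)]
    simp [Finset.smul_mem_smul_finset_iff]
  obtain ⟨a₀, ha₀, b₀, hb₀, hab₀⟩ := Finset.one_lt_card.1 hk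
  set r := (ℬ.filter (a₀ ∈ ·)).card with hr
  set l := (ℬ.filter fun B => a₀ ∈ B ∧ b₀ ∈ B).card with hl
  have hrx : ∀ x, (ℬ.filter (x ∈ ·)).card = r := by
    intro x
    obtain ⟨g, rfl⟩ := exists_smul_eq G a₀ x
    exact hr_inv g a₀
  have hlxy : ∀ x y, x ≠ y → (ℬ.filter fun B => x ∈ B ∧ y ∈ B).card = l := by
    intro x y hxy
    obtain ⟨g, h1, h2'⟩ := (is_two_pretransitive_iff.1 h2) hab₀ hxy
    rw [← h1, ← h2', hl_inv]
  have hΓmem : Γ ∈ ℬ := (hℬ Γ).2 ⟨1, one_smul G Γ⟩
  have hlpos : 0 < l := Finset.card_pos.2 ⟨Γ, Finset.mem_filter.2 ⟨hΓmem, ha₀, hb₀⟩⟩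
  have hcount : r * (k - 1) = (n - 1) * l := by
    have h1 := Finset.sum_card_bipartiteAbove_eq_sum_card_bipartiteBelow
      (r := fun (y : Ω) (B : Finset Ω) => y ∈ B)
      (s := Finset.univ.erase a₀) (t := ℬ.filter (a₀ ∈ ·))
    have e1 : ∀ y ∈ Finset.univ.erase a₀,
        ((ℬ.filter (a₀ ∈ ·)).bipartiteAbove (fun (y : Ω) (B : Finset Ω) => y ∈ B) y).card = l := by
      intro y hy
      rw [Finset.bipartiteAbove, Finset.filter_filter]
      exact hlxy a₀ y (Finset.ne_of_mem_erase hy).symm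
    have e2 : ∀ B ∈ ℬ.filter (a₀ ∈ ·),
        ((Finset.univ.erase a₀).bipartiteBelow (fun (y : Ω) (B : Finset Ω) => y ∈ B) B).card = k - 1 := by
      intro B hB
      rw [Finset.mem_filter] at hB
      rw [Finset.bipartiteBelow, ← hcard B hB.1, ← Finset.card_erase_of_mem hB.2]
      congr 1
      ext y
      simp [Finset.mem_erase, and_comm]
    rw [Finset.sum_congr rfl e1, Finset.sum_congr rfl e2, Finset.sum_const, Finset.sum_const,
      smul_eq_mul, smul_eq_mul, Finset.card_erase_of_mem (Finset.mem_univ a₀), Finset.card_univ] at h1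
    exact h1.symm
  have hlr : 2 * l < r := by
    by_contra hle
    push Not at hle
    have h1 : r * (k - 1) ≤ 2 * l * (k - 1) := Nat.mul_le_mul_right _ hle
    have h2 : (2 * k - 1) * l ≤ (n - 1) * l := Nat.mul_le_mul_right _ (by omega)
    have h3 : 2 * l * (k - 1) < (2 * k - 1) * l := by
      obtain ⟨j, hj⟩ : ∃ j, k = j + 2 := ⟨k - 2, by omega⟩
      rw [hj, show 2 * (j + 2) - 1 = 2 * j + 3 by omega, show j + 2 - 1 = j + 1 by omega]
      nlinarith
    omega
  -- a maximal Jordan set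
  let S := (Finset.univ : Finset (Finset Ω)).filter fun J =>
    IsJordanSet G J ∧ k ≤ J.card ∧ J.card + 2 ≤ n
  have hS : S.Nonempty := ⟨Γ, by
    simp only [S, Finset.mem_filter, Finset.mem_univ, true_and]
    exact ⟨hΓ, le_rfl, by omega⟩⟩
  obtain ⟨J, hJS, hmax⟩ := S.exists_max_image Finset.card hS
  simp only [S, Finset.mem_filter, Finset.mem_univ, true_and] at hJS
  obtain ⟨hJ, hkJ, hJn⟩ := hJS
  set C := Finset.univ \ J with hC
  have hCcard : C.card = n - J.card := by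
    rw [hC, Finset.card_sdiff_of_subset (Finset.subset_univ _), Finset.card_univ]
  have hcross : ∀ B ∈ ℬ, (B ∩ J).Nonempty → (B ∩ C).Nonempty → (C \ B).card ≤ 1 := by
    intro B hB hBJ hBC
    by_contra hlt
    push Not at hlt
    obtain ⟨g, rfl⟩ := (hℬ B).1 hB
    have hu : IsJordanSet G (J ∪ g • Γ) := hJ.union (hΓ.smul g) (by rwa [Finset.inter_comm])
    have hlt' : J.card < (J ∪ g • Γ).card := by
      refine Finset.card_lt_card ⟨Finset.subset_union_left, fun hsub => ?_⟩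
      obtain ⟨z, hz⟩ := hBC
      rw [Finset.mem_inter, hC, Finset.mem_sdiff] at hz
      exact hz.2.2 (hsub (Finset.mem_union_right _ hz.1))
    have hcu : (J ∪ g • Γ).card + 2 ≤ n := by
      have he : C \ (g • Γ) = Finset.univ \ (J ∪ g • Γ) := by
        ext z
        simp [hC, Finset.mem_sdiff, Finset.mem_union]
      have h1 := hlt
      rw [he, Finset.card_sdiff_of_subset (Finset.subset_univ _), Finset.card_univ] at h1
      omega
    exact hlt'.not_ge
      (hmax _ (by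
        simp only [S, Finset.mem_filter, Finset.mem_univ, true_and]
        exact ⟨hu, by omega, hcu⟩))
  have hC2 : C.card = 2 := by
    by_contra hne
    have hC3 : 2 < C.card := by omega
    obtain ⟨a, b, c, ha, hb, hc, hab, hac, hbc⟩ := Finset.two_lt_card_iff.1 hC3
    obtain ⟨x, hx⟩ : J.Nonempty := Finset.card_pos.1 (by omega)
    have hxC : x ∉ C := by simp [hC, hx]
    have hax : a ≠ x := fun h => hxC (h ▸ ha)
    have hCk : C.card ≤ k := by
      obtain ⟨B, hB⟩ := Finset.card_pos.1 ((hlxy a x hax).symm ▸ hlpos)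
      rw [Finset.mem_filter] at hB
      have h1 := hcross B hB.1 ⟨x, Finset.mem_inter.2 ⟨hB.2.2, hx⟩⟩ ⟨a, Finset.mem_inter.2 ⟨hB.2.1, ha⟩⟩
      have h2 : (C ∩ B).card < k := by
        rw [← hcard B hB.1]
        exact Finset.card_lt_card ⟨Finset.inter_subset_right,
          fun hsub => hxC (Finset.mem_inter.1 (hsub hB.2.2)).1⟩
      have h3 := Finset.card_sdiff_add_card_inter C B
      omega
    have hsub : ∀ B ∈ ℬ, a ∈ B → b ∈ B ∨ c ∈ B := by
      intro B hB haB
      by_contra hcon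
      push Not at hcon
      by_cases hBJ : (B ∩ J).Nonempty
      · have h1 := hcross B hB hBJ ⟨a, Finset.mem_inter.2 ⟨haB, ha⟩⟩
        have h2 : 1 < (C \ B).card := Finset.one_lt_card.2
          ⟨b, Finset.mem_sdiff.2 ⟨hb, hcon.1⟩, c, Finset.mem_sdiff.2 ⟨hc, hcon.2⟩, hbc⟩
        omega
      · have hBC : B ⊆ C := fun z hz => by
          simp only [hC, Finset.mem_sdiff, Finset.mem_univ, true_and]
          exact fun hzJ => hBJ ⟨z, Finset.mem_inter.2 ⟨hz, hzJ⟩⟩
        exact hcon.1 (Finset.eq_of_subset_of_card_le hBC (by rw [hcard B hB]; exact hCk) ▸ hb)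
    have h1 : r ≤ 2 * l := by
      rw [← hrx a, two_mul]
      nth_rw 1 [← hlxy a b hab]
      rw [← hlxy a c hac]
      refine (Finset.card_le_card fun B hB => ?_).trans (Finset.card_union_le _ _)
      rw [Finset.mem_filter] at hB
      rcases hsub B hB.1 hB.2 with h | h
      · exact Finset.mem_union_left _ (Finset.mem_filter.2 ⟨hB.1, hB.2, h⟩)
      · exact Finset.mem_union_right _ (Finset.mem_filter.2 ⟨hB.1, hB.2, h⟩)
    omega
  obtain ⟨a, b, hab, hCab⟩ := Finset.card_eq_two.1 hC2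
  have hmemJ : ∀ z, z ≠ a → z ≠ b → z ∈ J := by
    intro z hza hzb
    by_contra h
    have : z ∈ C := by simp [hC, h]
    rw [hCab] at this
    simp [hza, hzb] at this
  have hnotJ : a ∉ J ∧ b ∉ J := by
    constructor
    · intro h
      have : a ∈ C := by rw [hCab]; simp
      exact (Finset.mem_sdiff.1 this).2 h
    · intro h
      have : b ∈ C := by rw [hCab]; simp
      exact (Finset.mem_sdiff.1 this).2 h
  rw [PermLib.three_pretransitive_iff]
  intro u₁ u₂ u₃ v₁ v₂ v₃ h12 h13 h23 g12 g13 g23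
  obtain ⟨g, hg1, hg2⟩ := (is_two_pretransitive_iff.1 h2) h12 hab
  obtain ⟨g', hg'1, hg'2⟩ := (is_two_pretransitive_iff.1 h2) g12 hab
  have hu : g • u₃ ∈ J := hmemJ _ (fun e => h13.symm (MulAction.injective g (e.trans hg1.symm)))
    (fun e => h23.symm (MulAction.injective g (e.trans hg2.symm)))
  have hv : g' • v₃ ∈ J := hmemJ _ (fun e => g13.symm (MulAction.injective g' (e.trans hg'1.symm)))
    (fun e => g23.symm (MulAction.injective g' (e.trans hg'2.symm)))
  obtain ⟨h, hh, hhu⟩ := hJ _ hu _ hv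
  refine ⟨g'⁻¹ * h * g, ?_, ?_, ?_⟩
  · rw [mul_smul, mul_smul, hg1, hh a hnotJ.1, inv_smul_eq_iff, hg'1]
  · rw [mul_smul, mul_smul, hg2, hh b hnotJ.2, inv_smul_eq_iff, hg'2]
  · rw [mul_smul, mul_smul, hhu, inv_smul_smul]

theorem two_transitive_of_jordanSet [Finite Ω] (hprim : IsPreprimitive G Ω) (Γ : Set Ω)
    (h1 : 1 < Γ.ncard) (hn : 2 * Γ.ncard ≤ Nat.card Ω)
    (htr : ∀ x ∈ Γ, ∀ y ∈ Γ, ∃ g : G, (∀ z ∉ Γ, g • z = z) ∧ g • x = y) :
    IsMultiplyPretransitive G Ω 2 := by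
  have hc := Set.ncard_add_ncard_compl Γ
  refine hprim.is_two_pretransitive (s := Γᶜ) (n := Γᶜ.ncard - 1) (by omega) (by omega) ?_
  refine ⟨fun x y => ?_⟩
  have hx : (x : Ω) ∈ Γ := not_not.1 ((SubMulAction.mem_ofFixingSubgroup_iff G).1 x.2)
  have hy : (y : Ω) ∈ Γ := not_not.1 ((SubMulAction.mem_ofFixingSubgroup_iff G).1 y.2)
  obtain ⟨g, hg, hgx⟩ := htr _ hx _ hy
  exact ⟨⟨g, (mem_fixingSubgroup_iff G).2 hg⟩, Subtype.ext hgx⟩

end Cfsg.Agent.Suborbit
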